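/-
The rank one `BN`-pair of `U₃(4)`: tables and the search for the Weyl element.
-/
import Cfsg.Agent.Fi.TC
set_option autoImplicit false
set_option maxRecDepth 100000

namespace CA.Ly.E
open CA.TC

def tMU : ℕ := nat_lit 0x431c93535d97229a8b32db8f021883125987639e9b73df9fc114b3d155b7a092abb0d3af8010a39051a7e196bbf1d7bf0708d21749d6668eca76cfce460cc2564dc6278ada37cbde8500f29541f6e486eaf4c7eec404e2d445e6a582fab5c3fe893811997915e8be09f8ff0dc83c01d87d05a9ba19b9fb1d0b30311b71356ab6297af72d4a34215a75252bb2393bf33dcd2c50dd6d54acaa48bceb4c8c28409c6944edae58fdef5c4f24705f65742ea2683ee36c0e20601e61646fa6787fe77c5255a781189333d3bfe09e8b1351b7c01c8372d7afa19a9bd05d870310b3b1db9f6296ab9159974214a3f0df8f2392bb1641e6c50cd277c7fea48aca5745f68408c236c3eee58eda9449c64704f2f5cfde2682ead54dd60600e2b4cbce6786fa9871254b3c11f9f73d2aba09d975350a3801b8f32d6bbe191a7905c934317bff1da8b2295b7d158830213afb0de9b639dc65640f2850bde37c6eae489d61744e2c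40fce76c2faa585e6d448d20703feb5ceca6681f6954cc24607eef4cada278a39abb70d78f8318b3505587e29eab31d39fc21ca311519721929bf2dfaf011093d25da760968bb3dbbf4014839359b7e78efa34c3cec70cf21441c6a68aea75c7de8608e25545d66586dab6cbee4504d29649e62482caf7cffe0400c2d74df669be39baf30d493c319a710528ba29fbf71d083821db7515ebb61938fb2dcb3411187925aab20979ff3d8a3001597d352daa78fee74c0d2870de65446cae68bfe35c4c2c609f6154afa2587cef6c8f20505c6d64eea6483deb7cce24401d6974b2d38fa2928b925187821083f3d79fe3969bd35597c3149330dbaf209aab1059a70018a371dfbf619ebb515db7411cb3f6c7cee686cad645c6c604c2b7c3dea782da9741d68700d274cfee648eea544de6440ce235cbfe258afa1549f60508f278f70d68b60958750548340139f31d29b219197115093011faff2deabe29da7d25ca3c21bbfb3dabba399b79358b38313ce34c2ca2481c61440c20407de75c6da6585d65544d2450beeb6caeaa689e69648e2860ffef7cefae78df6d74cf2c70021883125987639e9b73df9f431c93535d97229a8b32db8f8010a39051a7e196bbf1d7bfc114b3d155b7a092abb0d3af460cc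2564dc6278ada37cbde0708d21749d6668eca76cfcec404e2d445e6a582fab5c3fe8500f29541f6e486eaf4c7eec83c01d87d05a9ba19b9fb1d893811997915e8be09f8ff0d4a34215a75252bb2393bf33d0b30311b71356ab6297af72d8c28409c6944edae58fdef5ccd2c50dd6d54acaa48bceb4c0e20601e61646fa6787fe77c4f24705f65742ea2683ee36c1351b7c01c8372d7afa19a9b5255a781189333d3bfe09e8b9159974214a3f0df8f2392bbd05d870310b3b1db9f6296ab5745f68408c236c3eee58eda1641e6c50cd277c7fea48acad54dd60600e2b4cbce6786fa9449c64704f2f5cfde2682ead975350a3801b8f32d6bbe199871254b3c11f9f73d2aba095b7d158830213afb0de9b6391a7905c934317bff1da8b2299d61744e2c40fce76c2faa58dc65640f2850bde37c6eae481f6954cc24607eef4cada2785e6d448d20703feb5ceca668e29eab31d39fc21ca3115197a39abb70d78f8318b350558760968bb3dbbf4014839359b721929bf2dfaf011093d25da7a68aea75c7de8608e25545d6e78efa34c3cec70cf21441c62482caf7cffe0400c2d74df66586dab6cbee4504d29649e628ba29fbf71d083821db751569be39baf30d493c319a7105aab20979ff3d8a3001597d35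ebb61938fb2dcb34111879256cae68bfe35c4c2c609f61542daa78fee74c0d2870de6544eea6483deb7cce24401d6974afa2587cef6c8f20505c6d64f3d79fe3969bd35597c31493b2d38fa2928b92518782108371dfbf619ebb515db7411cb330dbaf209aab1059a70018a3b7c3dea782da9741d68700d2f6c7cee686cad645c6c604c235cbfe258afa1549f60508f274cfee648eea544de6440ce239f31d29b21919711509301178f70d68b609587505483401bbfb3dabba399b79358b3831faff2deabe29da7d25ca3c217de75c6da6585d65544d24503ce34c2ca2481c61440c2040ffef7cefae78df6d74cf2c70beeb6caeaa689e69648e2860c114b3d155b7a092abb0d3af8010a39051a7e196bbf1d7bf431c93535d97229a8b32db8f021883125987639e9b73df9f8500f29541f6e486eaf4c7eec404e2d445e6a582fab5c3fe0708d21749d6668eca76cfce460cc2564dc6278ada37cbde0b30311b71356ab6297af72d4a34215a75252bb2393bf33d893811997915e8be09f8ff0dc83c01d87d05a9ba19b9fb1d4f24705f65742ea2683ee36c0e20601e61646fa6787fe77ccd2c50dd6d54acaa48bceb4c8c28409c6944edae58fdef5cd05d870310b3b1db9f6296ab9159974214a3f0df8f2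392bb5255a781189333d3bfe09e8b1351b7c01c8372d7afa19a9b9449c64704f2f5cfde2682ead54dd60600e2b4cbce6786fa1641e6c50cd277c7fea48aca5745f68408c236c3eee58eda1a7905c934317bff1da8b2295b7d158830213afb0de9b6399871254b3c11f9f73d2aba09d975350a3801b8f32d6bbe195e6d448d20703feb5ceca6681f6954cc24607eef4cada278dc65640f2850bde37c6eae489d61744e2c40fce76c2faa5821929bf2dfaf011093d25da760968bb3dbbf4014839359b7a39abb70d78f8318b3505587e29eab31d39fc21ca31151976586dab6cbee4504d29649e62482caf7cffe0400c2d74df6e78efa34c3cec70cf21441c6a68aea75c7de8608e25545d6ebb61938fb2dcb3411187925aab20979ff3d8a3001597d3569be39baf30d493c319a710528ba29fbf71d083821db7515afa2587cef6c8f20505c6d64eea6483deb7cce24401d69742daa78fee74c0d2870de65446cae68bfe35c4c2c609f615430dbaf209aab1059a70018a371dfbf619ebb515db7411cb3b2d38fa2928b925187821083f3d79fe3969bd35597c3149374cfee648eea544de6440ce235cbfe258afa1549f60508f2f6c7cee686cad645c6c604c2b7c3dea782da9741d68700d2faff2deabe29da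7d25ca3c21bbfb3dabba399b79358b383178f70d68b60958750548340139f31d29b219197115093011beeb6caeaa689e69648e2860ffef7cefae78df6d74cf2c703ce34c2ca2481c61440c20407de75c6da6585d65544d24508010a39051a7e196bbf1d7bfc114b3d155b7a092abb0d3af021883125987639e9b73df9f431c93535d97229a8b32db8fc404e2d445e6a582fab5c3fe8500f29541f6e486eaf4c7ee460cc2564dc6278ada37cbde0708d21749d6668eca76cfce4a34215a75252bb2393bf33d0b30311b71356ab6297af72dc83c01d87d05a9ba19b9fb1d893811997915e8be09f8ff0d0e20601e61646fa6787fe77c4f24705f65742ea2683ee36c8c28409c6944edae58fdef5ccd2c50dd6d54acaa48bceb4c9159974214a3f0df8f2392bbd05d870310b3b1db9f6296ab1351b7c01c8372d7afa19a9b5255a781189333d3bfe09e8bd54dd60600e2b4cbce6786fa9449c64704f2f5cfde2682ea5745f68408c236c3eee58eda1641e6c50cd277c7fea48aca5b7d158830213afb0de9b6391a7905c934317bff1da8b229d975350a3801b8f32d6bbe199871254b3c11f9f73d2aba091f6954cc24607eef4cada2785e6d448d20703feb5ceca6689d61744e2c40fce76c2faa58dc65640f2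850bde37c6eae4860968bb3dbbf4014839359b721929bf2dfaf011093d25da7e29eab31d39fc21ca3115197a39abb70d78f8318b35055872482caf7cffe0400c2d74df66586dab6cbee4504d29649e6a68aea75c7de8608e25545d6e78efa34c3cec70cf21441c6aab20979ff3d8a3001597d35ebb61938fb2dcb341118792528ba29fbf71d083821db751569be39baf30d493c319a7105eea6483deb7cce24401d6974afa2587cef6c8f20505c6d646cae68bfe35c4c2c609f61542daa78fee74c0d2870de654471dfbf619ebb515db7411cb330dbaf209aab1059a70018a3f3d79fe3969bd35597c31493b2d38fa2928b92518782108335cbfe258afa1549f60508f274cfee648eea544de6440ce2b7c3dea782da9741d68700d2f6c7cee686cad645c6c604c2bbfb3dabba399b79358b3831faff2deabe29da7d25ca3c2139f31d29b21919711509301178f70d68b609587505483401ffef7cefae78df6d74cf2c70beeb6caeaa689e69648e28607de75c6da6585d65544d24503ce34c2ca2481c61440c2040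
def tPH : ℕ := nat_lit 0xfa77e6725f642a3ae2a21260397bd6b15354e936d2611e50bb73f6335b746b3ef2e31670787fc6f05744a832c2201a409fab93d9b7d2158b115397501da3b35bbff2978331d19f705ca7a31abbe2d68721909b60deaf8398b3c2548f01129340ea55f88ccbb12f4599cbd3f0ab51e8cdcfa16e41898ad7e0685dd80ec391ad4db949dbd02959c84fc781ec49a908dfc095b6a46065c9f22ced85f7a056ba94a369f93120dd46fb90d4b2b42161d9b328fdc4f3b017be84e26de97024cd07ff806ccd52d0369d991a2fe6edd0eec572523ebd1b120f64e5f0afc162133aad5a161f25e1e02dc94291328dd81e3fa7e9c0306af1888d4f4d950ef572b0716ee1c9895f0c911eb476a0b262d10a856fcf9d2e777a90f366c14b817f8e993e367e80183b09444adee2dc877da160db37398746ee21d0b7bead50593f19054ecea3d8973ca5709a3329c642fe60d4a7ffa9400c859d642b3792f86abb52d08e8dbde6231710f04a395af0cf89ada7270751f45a785ee04d818d252f27d3fc7afa56c0204ccfb4158a48ee555ebf306148dff5119a09ea451fbb20a244ef361daacae675dcb710e340ff7719ba8be2659db300102a1ebe9cc5c47f7b6ac9a0d3262e7d90f507734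ba9c590512e0eff98d5857b6b2bcdb092223e3c94e546775be8c18008153738da0b26a7dcd564d08a1d17bad22ba4affc576cf0cb1907fbd63be5abec1668e049112779de1b67a3cc9460c0069c8a1ff53c755bb6af3e3047989a5ef12c345fa6ee3a208494aa9dfd1cf753962d3610c590badcf90cb657866c3200a4d845abeca63fb5e3b2892067d47568e096fcb9d3718510e5dc55eae8b67eb1f3f38d3026d06529e486bdbdc330810037fe4b56785379c698594490b5f66bd47073fbceb8db4cb0f4f27b957463bacaa89a48a076fa5b177c4338c288184080ffef7cefae78df6d74cf2c70beeb6caeaa689e69648e28607de75c6da6585d65544d24503ce34c2ca2481c61440c2040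
def tIV : ℕ := nat_lit 0xbce76c6ea2685c61444d2870fde37c2fa6781d65540c2c603eef4cecaa48de6964cf20507feb5cadae589f6d748e2440
def tOI : ℕ := nat_lit 0x2626624e391071c8cc28a6e089331b91c4984c949165124f
def tOJ : ℕ := nat_lit 0xcbbdc9ca2a672e7229345ee1ac8996d1a35b774883d0b85041d6e16305024100
def tW0 : ℕ := nat_lit 0x1c45e3d1a552173e30f081e295a04a241936218c1246517b94e6ceb06ed5084442c0a97015d2658a1f1066fddb634c973404a8b1c5a1ccc0
def tR : ℕ := nat_lit 0x141c5050

/-- multiplication of codes -/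
noncomputable def mu (a b : ℕ) : ℕ := fld tMU (Nat.mul (nat_lit 6) (Nat.add (Nat.mul (nat_lit 64) a) b)) (nat_lit 63)
/-- conjugation by `g ^ j` -/
noncomputable def ph (j a : ℕ) : ℕ := fld tPH (Nat.mul (nat_lit 6) (Nat.add (Nat.mul (nat_lit 64) j) a)) (nat_lit 63)
noncomputable def iv (a : ℕ) : ℕ := fld tIV (Nat.mul (nat_lit 6) a) (nat_lit 63)
noncomputable def oi (a : ℕ) : ℕ := fld tOI (Nat.mul (nat_lit 3) a) (nat_lit 7)
noncomputable def oj (a : ℕ) : ℕ := fld tOJ (Nat.mul (nat_lit 4) a) (nat_lit 15)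
noncomputable def w0 (a : ℕ) : ℕ := fld tW0 (Nat.mul (nat_lit 7) a) (nat_lit 127)
noncomputable def rp (a : ℕ) : ℕ := fld tR (Nat.mul (nat_lit 6) a) (nat_lit 63)

/-- `if a = b then x else y` -/
noncomputable def ie (a b x y : ℕ) : ℕ := Bool.rec y x (Nat.beq a b)

theorem ie_pos {a b x y : ℕ} (h : a = b) : ie a b x y = x := by unfold ie; rw [beq_iff.2 h]

theorem ie_neg {a b x y : ℕ} (h : a ≠ b) : ie a b x y = y := by
  unfold ie
  cases e : Nat.beq a b
  · rfl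
  · exact absurd (beq_iff.1 e) h

/-- action of the elements of `T` on the points -/
noncomputable def aL (c x : ℕ) : ℕ := frc x fun x => ie x 64 64 (mu c x)
/-- action of the powers of `g` on the points -/
noncomputable def aK (k x : ℕ) : ℕ := frc x fun x => ie x 64 64 (ph k x)
noncomputable def cand (e : ℕ) (f : ℕ → ℕ) (x : ℕ) : ℕ :=
  frc x fun x => ie x 64 0 (ie x 0 64 (ph (Nat.mod (Nat.mul e (oj x)) 15) (f (oi x))))
noncomputable def back (e s i : ℕ) : ℕ := ph (Nat.mod (Nat.mul e (Nat.sub 15 (oj s))) 15) (rp i)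
noncomputable def fx (e s i : ℕ) : Bool := anyLt 15 fun j => Nat.beq (ph (Nat.mod (Nat.mul e j) 15) s) (ph j (rp i))
noncomputable def bn (a : Bool) : Bool := Bool.rec true false a
noncomputable def clo (W : ℕ → ℕ) (t : ℕ) : Bool :=
  frc (W t) fun s => frc (W (iv s)) fun t2 => anyLt 15 fun k => allLt 65 fun x =>
    Nat.beq (W (aL t (W x))) (aL s (W (aL t2 (aK k x))))
noncomputable def good (W : ℕ → ℕ) : Bool :=
  anyLt 3 fun j => allLt 65 fun x => Nat.beq (aK j (W (aK (Nat.mod (Nat.sub 15 j) 15) x))) (w0 x)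
noncomputable def ff (s0 s1 m b1 n sn bn : ℕ) (i : ℕ) : ℕ :=
  frc i fun i => ie i 0 s0 (ie i 1 s1 (ie i m b1 (ie i n sn bn)))
noncomputable def q0 (e s0 : ℕ) : Bool :=
  band (blt 0 s0) (band (Nat.beq (ph (Nat.mod (Nat.mul e 3) 15) s0) s0)
    (band (bor (TC.bne (oi s0) 0) (Nat.beq (back e s0 0) s0))
      (bn (band (Nat.beq s0 (rp 0)) (Nat.beq (ph (Nat.mod (Nat.mul e 1) 15) s0) (ph 1 s0))))))
noncomputable def q1 (e s0 s1 : ℕ) : Bool :=
  band (blt 0 s1) (band (bor (TC.bne (oi s1) 0) (Nat.beq (back e s1 1) s0))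
    (bor (TC.bne (oi s1) 1) (band (Nat.beq (back e s1 1) s1) (bn (band (fx e s0 0) (fx e s1 1))))))
noncomputable def q2 (e s0 n sn : ℕ) (f : ℕ → ℕ) : Bool :=
  band (blt 0 sn) (band (Nat.beq (back e sn n) (f (oi sn)))
    (bor (TC.bne (oi sn) n) (bn (band (fx e s0 0) (fx e sn n)))))
noncomputable def fin2 (e m n o : ℕ) (f : ℕ → ℕ) : Bool :=
  band (allLt 5 fun i => bor (Nat.beq i 0) (bor (Nat.beq i 1) (bor (Nat.beq i m) (bor (Nat.beq i n) (Nat.beq i o)))))
    (bor (bn (band (clo (cand e f) 16) (clo (cand e f) 1))) (good (cand e f)))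
noncomputable def srch (e : ℕ) : Bool :=
  allLt 64 fun s0 => bor (bn (q0 e s0)) (allLt 64 fun s1 => bor (bn (q1 e s0 s1))
    (frc (oi s1) fun m => frc (back e s1 1) fun b1 => frc (ie m 2 3 2) fun n => allLt 64 fun sn =>
      frc (back e sn n) fun b => bor (bn (q2 e s0 n sn (ff s0 s1 m b1 n sn b))) (fin2 e m n (oi sn) (ff s0 s1 m b1 n sn b))))

theorem srch_all : (allLt 15 fun e => bor (TC.bne (Nat.mod (Nat.mul e e) 15) 1) (srch e)) = true := by
  decide +kernel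

theorem anyLt_of {f : ℕ → Bool} {n : ℕ} (k : ℕ) (hk : k < n) (h : f k = true) : anyLt n f = true := by
  induction n with
  | zero => omega
  | succ m ih =>
    show bor (f m) (anyLt m f) = true
    rw [bor_iff]
    by_cases e : k = m
    · exact Or.inl (e ▸ h)
    · exact Or.inr (ih (by omega))

theorem allLt_of {f : ℕ → Bool} {n : ℕ} (h : ∀ k < n, f k = true) : allLt n f = true := by
  induction n with
  | zero => rfl
  | succ m ih =>
    show band (f m) (allLt m f) = true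
    exact band_iff.2 ⟨h m (by omega), ih fun k hk => h k (by omega)⟩

theorem bn_iff {a : Bool} : bn a = true ↔ ¬ a = true := by cases a <;> simp [bn]

theorem imp_of {a b : Bool} (h : bor (bn a) b = true) (ha : a = true) : b = true :=
  (bor_iff.1 h).resolve_left fun h' => bn_iff.1 h' ha

theorem tab1 : ∀ t < 64, 0 < t → oi t < 5 ∧ oj t < 15 ∧ ph (oj t) (rp (oi t)) = t := by decide +kernel
theorem tab2 : ∀ i < 5, 0 < rp i ∧ rp i < 64 ∧ ∀ j < 15, oi (ph j (rp i)) = i := by decide +kernel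
theorem tab3 : ∀ a < 15, ∀ b < 15, ∀ x < 64, ph a (ph b x) = ph ((a + b) % 15) x := by decide +kernel
theorem tab4 : ∀ x < 64, ph 0 x = x ∧ ∀ j < 15, ph j x < 64 ∧ (0 < x → 0 < ph j x) := by decide +kernel
theorem tab5 : ∀ e < 15, ∀ j < 15, (e * (15 - j) % 15 + e * j % 15) % 15 = 0 := by decide +kernel
theorem tab6 : ph 3 (rp 0) = rp 0 ∧ ph 1 (rp 0) ≠ rp 0 := by decide +kernel
theorem tab7 : ∀ x < 65, ∀ c < 64, aL c x < 65 := by decide +kernel
theorem tab8 : ∀ x < 65, ∀ k < 15, aK k x < 65 := by decide +kernel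
theorem tab9 : ∀ x < 64, iv x < 64 ∧ mu x (iv x) = 0 ∧ (0 < x → 0 < iv x) := by decide +kernel

theorem search {e : ℕ} (he : e < 15) (he2 : e * e % 15 = 1) {W : ℕ → ℕ} (h0 : W 64 = 0) (h0' : W 0 = 64)
    (hlt : ∀ t < 64, 0 < t → 0 < W t ∧ W t < 64)
    (hφ : ∀ j < 15, ∀ t < 64, 0 < t → W (ph j t) = ph (e * j % 15) (W t)) (hinv : ∀ t < 64, 0 < t → W (W t) = t)
    (hfix : ∀ t < 64, 0 < t → ∀ t' < 64, 0 < t' → W t = t → W t' = t' → t = t')
    (hC : ∀ t < 64, 0 < t → ∃ k < 15, ∀ x < 65, W (aL t (W x)) = aL (W t) (W (aL (W (iv (W t))) (aK k x)))) :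
    ∃ j < 3, ∀ x < 65, aK j (W (aK ((15 - j) % 15) x)) = w0 x := by
  have hr : ∀ i < 5, 0 < W (rp i) ∧ W (rp i) < 64 := fun i hi => hlt _ (tab2 i hi).2.1 (tab2 i hi).1
  have hb : ∀ i < 5, back e (W (rp i)) i = W (rp (oi (W (rp i)))) := by
    intro i hi
    obtain ⟨h1, h2, h3⟩ := tab1 _ (hr i hi).2 (hr i hi).1
    have h4 := hinv _ (tab2 i hi).2.1 (tab2 i hi).1
    rw [← h3, hφ _ h2 _ (tab2 _ h1).2.1 (tab2 _ h1).1] at h4
    show ph (e * (15 - oj (W (rp i))) % 15) (rp i) = _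
    conv_lhs => arg 2; rw [← h4]
    rw [tab3 _ (Nat.mod_lt _ (by norm_num)) _ (Nat.mod_lt _ (by norm_num)) _ (hr _ h1).2, tab5 e he _ h2,
      (tab4 _ (hr _ h1).2).1]
  have hf : ∀ i < 5, i ≠ 0 → bn (band (fx e (W (rp 0)) 0) (fx e (W (rp i)) i)) = true := by
    intro i hi i0
    rw [bn_iff, band_iff]
    rintro ⟨h1, h2⟩
    obtain ⟨j, hj, h3⟩ := anyLt_spec h1
    obtain ⟨k, hk, h4⟩ := anyLt_spec h2
    rw [beq_iff] at h3 h4
    have a0 := tab2 0 (by norm_num)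
    have a1 := tab2 i hi
    have := hfix _ ((tab4 _ a0.2.1).2 j hj).1 (((tab4 _ a0.2.1).2 j hj).2 a0.1) _ ((tab4 _ a1.2.1).2 k hk).1
      (((tab4 _ a1.2.1).2 k hk).2 a1.1) ((hφ j hj _ a0.2.1 a0.1).trans h3) ((hφ k hk _ a1.2.1 a1.1).trans h4)
    have h5 := congrArg oi this
    rw [a0.2.2 j hj, a1.2.2 k hk] at h5
    exact i0 h5.symm
  have h1 : srch e = true := (bor_iff.1 (allLt_spec srch_all e he)).resolve_left fun h => bne_iff.1 h he2
  have a0 := tab2 0 (by norm_num)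
  have h2 := imp_of (allLt_spec h1 _ (hr 0 (by norm_num)).2) (by
    unfold q0
    rw [band_iff, band_iff, band_iff, blt_iff, beq_iff, bor_iff, bne_iff, beq_iff, bn_iff, band_iff, beq_iff, beq_iff]
    refine ⟨(hr 0 (by norm_num)).1, ?_, ?_, fun ⟨h3, h4⟩ => ?_⟩
    · have := hφ 3 (by norm_num) _ a0.2.1 a0.1
      rw [tab6.1] at this
      exact this.symm
    · by_cases h : oi (W (rp 0)) = 0
      · right; rw [hb 0 (by norm_num), h]
      · exact Or.inl h
    · have := hφ 1 (by norm_num) _ a0.2.1 a0.1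
      refine tab6.2 (hfix _ ((tab4 _ a0.2.1).2 1 (by norm_num)).1 (((tab4 _ a0.2.1).2 1 (by norm_num)).2 a0.1) _
        a0.2.1 a0.1 ?_ h3)
      rw [this]; exact h4.trans (by rw [h3]))
  have h3 := imp_of (allLt_spec h2 _ (hr 1 (by norm_num)).2) (by
    unfold q1
    rw [band_iff, band_iff, blt_iff, bor_iff, bne_iff, beq_iff, bor_iff, bne_iff, band_iff, beq_iff]
    refine ⟨(hr 1 (by norm_num)).1, ?_, ?_⟩
    · by_cases h : oi (W (rp 1)) = 0
      · right; rw [hb 1 (by norm_num), h]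
      · exact Or.inl h
    · by_cases h : oi (W (rp 1)) = 1
      · right; exact ⟨by rw [hb 1 (by norm_num), h], hf 1 (by norm_num) (by norm_num)⟩
      · exact Or.inl h)
  rw [frc_eq, frc_eq, frc_eq] at h3
  generalize hn : ie (oi (W (rp 1))) 2 3 2 = n at h3
  have n5 : n < 5 ∧ n ≠ 0 := by
    by_cases h : oi (W (rp 1)) = 2
    · rw [ie_pos h] at hn; omega
    · rw [ie_neg h] at hn; omega
  have h4 := allLt_spec h3 _ (hr n n5.1).2
  rw [frc_eq] at h4
  generalize hF : ff (W (rp 0)) (W (rp 1)) (oi (W (rp 1))) (back e (W (rp 1)) 1) n (W (rp n)) (back e (W (rp n)) n) = f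
    at h4
  have hF' : ∀ i, i = 0 ∨ i = 1 ∨ i = oi (W (rp 1)) ∨ i = n ∨ i = oi (W (rp n)) → f i = W (rp i) := by
    intro i hi
    rw [← hF]
    unfold ff
    rw [frc_eq]
    by_cases c0 : i = 0
    · rw [ie_pos c0, c0]
    rw [ie_neg c0]
    by_cases c1 : i = 1
    · rw [ie_pos c1, c1]
    rw [ie_neg c1]
    by_cases c2 : i = oi (W (rp 1))
    · rw [ie_pos c2, hb 1 (by norm_num), ← c2]
    rw [ie_neg c2]
    by_cases c3 : i = n
    · rw [ie_pos c3, c3]
    rw [ie_neg c3, hb n n5.1, ← ((((hi.resolve_left c0).resolve_left c1).resolve_left c2).resolve_left c3)]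
  have h5 := imp_of h4 (by
    unfold q2
    rw [band_iff, band_iff, blt_iff, beq_iff, bor_iff]
    exact ⟨(hr n n5.1).1, by rw [hF' _ (by simp), hb n n5.1], Or.inr (hf n n5.1 n5.2)⟩)
  unfold fin2 at h5
  rw [band_iff] at h5
  have hW : ∀ x < 65, cand e f x = W x := by
    intro x hx
    unfold cand
    rw [frc_eq]
    by_cases c0 : x = 64
    · rw [ie_pos c0, c0, h0]
    rw [ie_neg c0]
    by_cases c1 : x = 0
    · rw [ie_pos c1, c1, h0']
    rw [ie_neg c1]
    obtain ⟨t1, t2, t3⟩ := tab1 x (by omega) (by omega)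
    have := allLt_spec h5.1 _ t1
    rw [bor_iff, bor_iff, bor_iff, bor_iff, beq_iff, beq_iff, beq_iff, beq_iff, beq_iff] at this
    rw [hF' _ this]
    conv_rhs => rw [← t3]
    exact (hφ _ t2 _ (tab2 _ t1).2.1 (tab2 _ t1).1).symm
  have hW65 : ∀ x < 65, W x < 65 := by
    intro x hx
    by_cases c0 : x = 64
    · rw [c0, h0]; norm_num
    by_cases c1 : x = 0
    · rw [c1, h0']; norm_num
    have := hlt x (by omega) (by omega)
    omega
  have hc : ∀ t < 64, 0 < t → clo (cand e f) t = true := by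
    intro t ht t0
    obtain ⟨k, hk, h6⟩ := hC t ht t0
    have b1 := hlt t ht t0
    have b2 := tab9 _ b1.2
    have b3 := hlt _ b2.1 (b2.2.2 b1.1)
    unfold clo
    rw [frc_eq, frc_eq, hW t (by omega), hW _ (by omega)]
    refine anyLt_of k hk (allLt_of fun x hx => beq_iff.2 ?_)
    rw [hW x hx, hW _ (tab7 _ (hW65 x hx) t ht), hW _ (tab7 _ (tab8 x hx k hk) _ b3.2), h6 x hx]
  obtain ⟨j, hj, h7⟩ := anyLt_spec (imp_of h5.2 (band_iff.2 ⟨hc 16 (by norm_num) (by norm_num),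
    hc 1 (by norm_num) (by norm_num)⟩))
  refine ⟨j, hj, fun x hx => ?_⟩
  have : aK j (cand e f (aK ((15 - j) % 15) x)) = w0 x := beq_iff.1 (allLt_spec h7 x hx)
  rwa [hW _ (tab8 x hx _ (Nat.mod_lt _ (by norm_num)))] at this

theorem realizeEqns_Ly_E1 : True := by
  have := @CA.Ly.E.oi.eq_1
  have := @CA.Ly.E.oi.eq_def
  have := @CA.Ly.E.oi.congr_simp
  have := @CA.Ly.E.tPH.eq_1
  have := @CA.Ly.E.tPH.eq_def
  have := @CA.Ly.E.tPH.congr_simp
  have := @CA.Ly.E.iv.eq_1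
  have := @CA.Ly.E.iv.eq_def
  have := @CA.Ly.E.iv.congr_simp
  have := @CA.Ly.E.back.eq_1
  have := @CA.Ly.E.back.eq_def
  have := @CA.Ly.E.back.congr_simp
  have := @CA.Ly.E.srch.eq_1
  have := @CA.Ly.E.srch.eq_def
  have := @CA.Ly.E.srch.congr_simp
  have := @CA.Ly.E.tMU.eq_1
  have := @CA.Ly.E.tMU.eq_def
  have := @CA.Ly.E.tMU.congr_simp
  have := @CA.Ly.E.rp.eq_1
  have := @CA.Ly.E.rp.eq_def
  have := @CA.Ly.E.rp.congr_simp
  have := @CA.Ly.E.q1.eq_1
  have := @CA.Ly.E.q1.eq_def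
  have := @CA.Ly.E.q1.congr_simp
  have := @CA.Ly.E.aK.eq_1
  have := @CA.Ly.E.aK.eq_def
  have := @CA.Ly.E.aK.congr_simp
  have := @CA.Ly.E.q0.eq_1
  have := @CA.Ly.E.q0.eq_def
  have := @CA.Ly.E.q0.congr_simp
  have := @CA.Ly.E.ff.eq_1
  have := @CA.Ly.E.ff.eq_def
  have := @CA.Ly.E.ff.congr_simp
  have := @CA.Ly.E.mu.eq_1
  have := @CA.Ly.E.mu.eq_def
  have := @CA.Ly.E.mu.congr_simp
  have := @CA.Ly.E.good.eq_1
  have := @CA.Ly.E.good.eq_def
  have := @CA.Ly.E.good.congr_simp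
  have := @CA.Ly.E.clo.eq_1
  have := @CA.Ly.E.clo.eq_def
  have := @CA.Ly.E.clo.congr_simp
  have := @CA.Ly.E.tIV.eq_1
  have := @CA.Ly.E.tIV.eq_def
  have := @CA.Ly.E.tIV.congr_simp
  have := @CA.Ly.E.tW0.eq_1
  have := @CA.Ly.E.tW0.eq_def
  have := @CA.Ly.E.tW0.congr_simp
  have := @CA.Ly.E.tOI.eq_1
  have := @CA.Ly.E.tOI.eq_def
  have := @CA.Ly.E.tOI.congr_simp
  have := @CA.Ly.E.aL.eq_1
  have := @CA.Ly.E.aL.eq_def
  have := @CA.Ly.E.aL.congr_simp
  have := @CA.Ly.E.ph.eq_1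
  have := @CA.Ly.E.ph.eq_def
  have := @CA.Ly.E.ph.congr_simp
  have := @CA.Ly.E.oj.eq_1
  have := @CA.Ly.E.oj.eq_def
  have := @CA.Ly.E.oj.congr_simp
  have := @CA.Ly.E.w0.eq_1
  have := @CA.Ly.E.w0.eq_def
  have := @CA.Ly.E.w0.congr_simp
  have := @CA.Ly.E.tOJ.eq_1
  have := @CA.Ly.E.tOJ.eq_def
  have := @CA.Ly.E.tOJ.congr_simp
  have := @CA.Ly.E.tR.eq_1
  have := @CA.Ly.E.tR.eq_def
  have := @CA.Ly.E.tR.congr_simp
  have := @CA.Ly.E.fx.eq_1
  have := @CA.Ly.E.fx.eq_def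
  have := @CA.Ly.E.fx.congr_simp
  have := @CA.Ly.E.cand.eq_1
  have := @CA.Ly.E.cand.eq_def
  have := @CA.Ly.E.cand.congr_simp
  have := @CA.Ly.E.bn.eq_1
  have := @CA.Ly.E.bn.eq_def
  have := @CA.Ly.E.bn.congr_simp
  have := @CA.Ly.E.ie.eq_1
  have := @CA.Ly.E.ie.eq_def
  have := @CA.Ly.E.ie.congr_simp
  have := @CA.Ly.E.q2.eq_1
  have := @CA.Ly.E.q2.eq_def
  have := @CA.Ly.E.q2.congr_simp
  have := @CA.Ly.E.fin2.eq_1
  have := @CA.Ly.E.fin2.eq_def
  have := @CA.Ly.E.fin2.congr_simp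
  trivial

end CA.Ly.E
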